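import Cfsg.Agent.Lib.FT.GW.Cor

/-!
# Recognition of `PGL(2,q)` among groups with dihedral Sylow 2-subgroups
-/

set_option autoImplicit false

namespace Cfsg.Lib.GW
open Matrix Subgroup Cfsg.Lib Cfsg.Lib.FT Cfsg.Lib.GW.L2
open scoped MatrixGroups

variable {Y : Type*} [Group Y]

/-- isomorphic to `PSL(2,q)` or `PGL(2,q)`, `q > 3` -/
def IsPG2 (Y : Type*) [Group Y] : Prop :=
  ∃ (F : Type) (_ : Field F) (_ : Fintype F), 3 < Fintype.card F ∧
    (Nonempty (Y ≃* PSL(2, F)) ∨ Nonempty (Y ≃* ProjGenLinGroup (Fin 2) F))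

theorem IsPG2.of_equiv (h : IsPG2 Y) {Y' : Type*} [Group Y'] (e : Y ≃* Y') : IsPG2 Y' := by
  obtain ⟨F, _, _, h1, h2⟩ := h
  exact ⟨F, _, _, h1, h2.imp (·.map e.symm.trans) (·.map e.symm.trans)⟩

theorem L2.Mod.pgl {F : Type*} [Field F] [Finite F] {L : Subgroup Y} (m : Mod L F)
    (hσ : ∀ y, m.σ y = 1) (hL : L ≠ ⊤) : Nonempty (Y ≃* ProjGenLinGroup (Fin 2) F) := by
  obtain ⟨u, -, hu⟩ := SetLike.exists_of_lt (lt_top_iff_ne_top.2 hL)
  obtain ⟨U, hU⟩ := m.exists_rep_of_σ (hσ u)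
  have h1 : ∀ A : Matrix (Fin 2) (Fin 2) F, det A ≠ 0 → IsSquare (det A) → ∃ y, m.Rep y A := by
    rintro A h0 ⟨c, hc⟩
    have hc0 : c ≠ 0 := by rintro rfl; exact h0 (by simpa using hc)
    exact ⟨_, by simpa [smul_smul, hc0] using
      (m.rep_π ⟨c⁻¹ • A, by rw [det_smul', hc]; field_simp⟩).smul hc0⟩
  have h2 : ∀ A : GL (Fin 2) F, ∃ y, m.Rep y A := fun A => by
    by_cases h : IsSquare (det A.1)
    · exact h1 _ A.det_ne_zero h
    obtain ⟨y, hy⟩ := h1 (U * A) (by rw [det_mul]; exact mul_ne_zero hU.1 A.det_ne_zero)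
      (by rw [det_mul]; exact isSquare_mul_of_not' (mt hU.mem_iff.2 hu) h)
    refine ⟨u⁻¹ * y, A.det_ne_zero, fun X => cancel_left hU.1 ?_⟩
    rw [← mul_assoc, ← hU.2, m.θ_mul, m.θ_θ_inv, mul_assoc, hy.2, mul_assoc]
  choose φ hφ using h2
  let f : GL (Fin 2) F →* Y := MonoidHom.mk' φ fun A B => (hφ _).ext ((hφ A).mul (hφ B))
  have h3 : f.ker = center _ := by
    ext A
    rw [GeneralLinearGroup.mem_center_iff_val_mem_range_scalar]
    refine ⟨fun h => ?_, fun ⟨c, hc⟩ => Mod.Rep.eq_one (m := m) (c := c) ?_⟩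
    · obtain ⟨c, -, hc⟩ := m.rep_one.unique ((show φ A = 1 from h) ▸ hφ A :)
      exact ⟨c, by rw [hc]; ext i j; simp [diagonal, one_apply]⟩
    · rw [show c • 1 = A.1 by rw [← hc]; ext i j; simp [diagonal, one_apply]]
      exact hφ A
  refine ⟨((QuotientGroup.quotientMulEquivOfEq h3).symm.trans
    (QuotientGroup.quotientKerEquivOfSurjective f fun y => ?_)).symm⟩
  obtain ⟨A, hA⟩ := m.exists_rep_of_σ (hσ y)
  exact ⟨.mkOfDetNeZero A hA.1, (hφ _).ext hA⟩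

theorem Dih2.isPG2 [Finite Y] (hd : Dih2 Y) (hO : pPrimeCore 2 Y = ⊥) (hns : ¬ Group.IsSolvable Y)
    {j : Y} (hj : orderOf j = 2)
    (hD : ∀ v, Four j v → ∀ h ∈ C1[j], h * h = 1 ∨ v * h * v⁻¹ = h⁻¹) : IsPG2 Y := by
  obtain ⟨L, hA, -, hp, hL | hL⟩ := hd.exists_almS hO hns
  swap
  · obtain rfl := a7_top hA hL
    obtain ⟨v, w, u, x, h, -⟩ := (hL.of_equiv topEquiv).exists_cfg hj
    refine absurd ?_ h.u_ne_inv
    rcases hD v h.four u (mem_c1.2 h.tu.symm) with e | e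
    · exact eq_inv_of_mul_eq_one_left e
    · rwa [h.vu, mul_inv_cancel_right] at e
  by_cases hT : L = ⊤
  · obtain ⟨F, _, _, -, h1, h2⟩ := (hT ▸ hL).of_equiv topEquiv
    exact ⟨F, _, _, h1, Or.inl h2⟩
  obtain ⟨F, _, _, h1, ⟨m⟩⟩ := exists_mod hA hL
  have := Fintype.ofFinite F
  refine ⟨F, _, this, by rwa [← Nat.card_eq_fintype_card], Or.inr (m.pgl (fun y => ?_) hT)⟩
  have h2 : ∀ u, u * u = 1 → u ∈ m.σ.ker := fun u hu => by
    by_cases h : u = 1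
    · exact h ▸ one_mem _
    · exact m.σ_of_inv hd (BSW.orderOf_two_of_mul_self h hu)
  obtain ⟨v, hv, hf⟩ := l2_exists_four hA hL hj
  have h3 : C1[j] ≤ m.σ.ker := fun h hh => (hD v hf h hh).elim (h2 h) fun e =>
    (mul_mem_cancel_left (h2 v hf.vv)).1 (h2 _ (by
      rw [hf.v_inv] at e; rw [← mul_assoc, e, inv_mul_cancel]))
  have h4 : L ≤ m.σ.ker := fun _ => m.σ_of_mem
  by_cases hjL : j ∈ L
  · obtain ⟨g, h5, h6⟩ := l2_conj hA hL hj ((sm_orderOf_conj y j).trans hj) hjL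
      (hA.normal.conj_mem j hjL y)
    refine (mul_mem_cancel_left (inv_mem (h4 h5))).1 (h3 (mem_c1.2 ?_))
    calc _ = g⁻¹ * (y * j * y⁻¹) * y := by group
      _ = _ := by rw [← h6]; group
  obtain ⟨T, hT, h5⟩ := exists_isSylowIn_ge hf.isPGroup le_top
  obtain ⟨c, hc⟩ := hd.exists_gen hT.isPGroup
  have h6 : ∀ s ∈ T, s ∉ zpowers c → s ∈ m.σ.ker := fun s h1 h3 => h2 s (hc.sq s h1 h3)
  have h7 : ∀ s ∈ T, s ∉ zpowers c → T ≤ m.σ.ker := fun s h1 h3 x hx => by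
    by_cases h : x ∈ zpowers c
    · exact (mul_mem_cancel_left (h6 s h1 h3)).1
        (h6 _ (mul_mem h1 hx) (mt (mul_mem_cancel_right h).1 h3))
    · exact h6 x hx h
  have h8 := (DihGen.one_not_mem (c := c) hf).elim (h7 _ (h5 (left_mem_four j v))) (h7 _ (h5 (right_mem_four j v)))
  obtain ⟨k, h9, h10⟩ := (hT.mono h8 le_top).exists_mul_mem_normalizer (g := y)
    (le_normalizer_of_normal (mem_top y))
  refine (mul_mem_cancel_left (inv_mem h9)).1 ((?_ : N[T] ≤ _) h10)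
  rcases hd.four_or_char hT.isPGroup (fun e => hf.t_ne (mem_bot.1 (e ▸ h5 (left_mem_four j v)))) with
    ⟨a, b, h11, e⟩ | ⟨z, h11, hz, h12⟩
  · obtain ⟨w, h12, h13⟩ := hd.exists_four_of_perfect hp hf.hv hv
    obtain ⟨g, -, h14⟩ := hT.exists_conj_le h13.isPGroup le_top
    have := hA.normal
    refine absurd (map_conj_le_of_mem_normalizer (four_le_iff.2 ⟨hv, h12⟩)
      (le_normalizer_of_normal (mem_top g)) ((eq_of_le_of_card_ge h14 ?_).ge (h5 (left_mem_four j v)))) hjL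
    rw [card_map_conj, e, h11.card, h13.card]
  rw [← (hd.isComplIn hz h12 (hT.mono le_normalizer le_top)).sup_eq]
  exact sup_le ((hd.le_centralizer hT.isPGroup (odd_oc _) (oc_le _) hz h11 ((oc_le _).trans h12)).trans
    ((centralizer_le_singleton (h5 (left_mem_four j v))).trans h3)) h8

end Cfsg.Lib.GW
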